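import Mathlib

/-!
# Explicit matrices over the field with two elements (helper497, task 4453 of helper21)
-/

set_option autoImplicit false
set_option maxRecDepth 100000

namespace Cfsg.Agent.H497.SN

theorem pow_five {M : Type*} [Monoid M] (a : M) : a ^ 5 = a * a * (a * a) * a := by
  rw [← pow_two, ← pow_two, ← pow_mul, ← pow_succ]

def alG : Matrix (Fin 4) (Fin 4) (ZMod 2) := !![0, 1, 0, 0; 1, 1, 0, 0; 0, 0, 1, 0; 0, 0, 0, 1]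
def alH : Matrix (Fin 4) (Fin 4) (ZMod 2) := !![0, 1, 1, 0; 0, 0, 1, 1; 1, 0, 1, 1; 1, 1, 1, 1]
def alH' : Matrix (Fin 4) (Fin 4) (ZMod 2) := !![0, 1, 1, 0; 0, 0, 1, 1; 1, 0, 1, 1; 1, 1, 1, 1]
def alD : Matrix (Fin 4) (Fin 4) (ZMod 2) := !![1, 1, 1, 0; 0, 1, 0, 0; 0, 1, 1, 1; 0, 0, 1, 0]
def alG2 : Matrix (Fin 4) (Fin 4) (ZMod 2) := !![1, 1, 0, 0; 1, 0, 0, 0; 0, 0, 1, 0; 0, 0, 0, 1]
def alD2 : Matrix (Fin 4) (Fin 4) (ZMod 2) := !![1, 1, 0, 1; 0, 1, 0, 0; 0, 0, 0, 1; 0, 1, 1, 1]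
def alE : Matrix (Fin 4) (Fin 4) (ZMod 2) := !![0, 1, 0, 0; 1, 0, 1, 0; 0, 1, 1, 1; 0, 0, 1, 0]
def alE2 : Matrix (Fin 4) (Fin 4) (ZMod 2) := !![1, 0, 1, 0; 0, 0, 1, 1; 1, 1, 1, 1; 0, 1, 1, 1]
def alE4 : Matrix (Fin 4) (Fin 4) (ZMod 2) := !![0, 1, 0, 1; 1, 0, 0, 0; 0, 0, 0, 1; 1, 0, 1, 1]
def alK : Matrix (Fin 4) (Fin 4) (ZMod 2) := !![0, 1, 0, 0; 1, 0, 0, 1; 0, 0, 0, 1; 0, 1, 1, 1]
def alK2 : Matrix (Fin 4) (Fin 4) (ZMod 2) := !![1, 0, 0, 1; 0, 0, 1, 1; 0, 1, 1, 1; 1, 1, 1, 1]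
def alK4 : Matrix (Fin 4) (Fin 4) (ZMod 2) := !![0, 1, 1, 0; 1, 0, 0, 0; 1, 0, 1, 1; 0, 0, 1, 0]

theorem al_h0 : alH * alH' = 1 := by decide +kernel
theorem al_G2 : alG ^ 2 = alG2 := by rw [pow_two]; decide +kernel
theorem al_h1 : alG ^ 3 = 1 := by rw [pow_succ, al_G2]; decide +kernel
theorem al_D : alH * alG * alH' = alD := by decide +kernel
theorem al_D2 : alH * alG2 * alH' = alD2 := by decide +kernel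
theorem al_E : alG * alD = alE := by decide +kernel
theorem al_E2 : alE * alE = alE2 := by decide +kernel
theorem al_E4 : alE2 * alE2 = alE4 := by decide +kernel
theorem al_E5 : alE4 * alE = 1 := by decide +kernel
theorem al_K : alG * alD2 = alK := by decide +kernel
theorem al_K2 : alK * alK = alK2 := by decide +kernel
theorem al_K4 : alK2 * alK2 = alK4 := by decide +kernel
theorem al_K5 : alK4 * alK = 1 := by decide +kernel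
theorem al_h3 : (alG * (alH * alG * alH')) ^ 5 = 1 := by
  rw [al_D, al_E, pow_five, al_E2, al_E4, al_E5]
theorem al_h4 : (alG * (alH * alG ^ 2 * alH')) ^ 5 = 1 := by
  rw [al_G2, al_D2, al_K, pow_five, al_K2, al_K4, al_K5]

def gaG : Matrix (Fin 5) (Fin 5) (ZMod 2) := !![0, 1, 0, 0, 0; 1, 1, 0, 0, 0; 0, 0, 0, 1, 0; 0, 0, 1, 1, 0; 0, 0, 0, 0, 1]
def gaH : Matrix (Fin 5) (Fin 5) (ZMod 2) := !![1, 1, 0, 1, 0; 0, 1, 0, 0, 0; 0, 1, 1, 0, 0; 0, 0, 0, 1, 0; 0, 1, 0, 1, 1]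
def gaH' : Matrix (Fin 5) (Fin 5) (ZMod 2) := !![1, 1, 0, 1, 0; 0, 1, 0, 0, 0; 0, 1, 1, 0, 0; 0, 0, 0, 1, 0; 0, 1, 0, 1, 1]
def gaD : Matrix (Fin 5) (Fin 5) (ZMod 2) := !![1, 0, 1, 0, 0; 1, 0, 0, 1, 0; 1, 0, 0, 0, 0; 0, 1, 1, 1, 0; 1, 0, 1, 1, 1]
def gaG2 : Matrix (Fin 5) (Fin 5) (ZMod 2) := !![1, 1, 0, 0, 0; 1, 0, 0, 0, 0; 0, 0, 1, 1, 0; 0, 0, 1, 0, 0; 0, 0, 0, 0, 1]
def gaD2 : Matrix (Fin 5) (Fin 5) (ZMod 2) := !![0, 0, 1, 0, 0; 1, 1, 0, 1, 0; 1, 0, 1, 0, 0; 0, 1, 1, 0, 0; 1, 1, 1, 0, 1]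
def gaE : Matrix (Fin 5) (Fin 5) (ZMod 2) := !![1, 0, 0, 1, 0; 0, 0, 1, 1, 0; 0, 1, 1, 1, 0; 1, 1, 1, 1, 0; 1, 0, 1, 1, 1]
def gaE2 : Matrix (Fin 5) (Fin 5) (ZMod 2) := !![0, 1, 1, 0, 0; 1, 0, 0, 0, 0; 1, 0, 1, 1, 0; 0, 0, 1, 0, 0; 1, 0, 1, 0, 1]
def gaE4 : Matrix (Fin 5) (Fin 5) (ZMod 2) := !![0, 0, 1, 1, 0; 0, 1, 1, 0, 0; 1, 1, 1, 1, 0; 1, 0, 1, 1, 0; 0, 1, 1, 1, 1]
def gaK : Matrix (Fin 5) (Fin 5) (ZMod 2) := !![1, 1, 0, 1, 0; 1, 1, 1, 1, 0; 0, 1, 1, 0, 0; 1, 1, 0, 0, 0; 1, 1, 1, 0, 1]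
def gaK2 : Matrix (Fin 5) (Fin 5) (ZMod 2) := !![1, 1, 1, 0, 0; 1, 0, 0, 0, 0; 1, 0, 0, 1, 0; 0, 0, 1, 0, 0; 1, 0, 1, 0, 1]
def gaK4 : Matrix (Fin 5) (Fin 5) (ZMod 2) := !![1, 1, 1, 1, 0; 1, 1, 1, 0, 0; 1, 1, 0, 0, 0; 1, 0, 0, 1, 0; 1, 1, 0, 1, 1]

theorem ga_h0 : gaH * gaH' = 1 := by decide +kernel
theorem ga_G2 : gaG ^ 2 = gaG2 := by rw [pow_two]; decide +kernel
theorem ga_h1 : gaG ^ 3 = 1 := by rw [pow_succ, ga_G2]; decide +kernel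
theorem ga_D : gaH * gaG * gaH' = gaD := by decide +kernel
theorem ga_D2 : gaH * gaG2 * gaH' = gaD2 := by decide +kernel
theorem ga_E : gaG * gaD = gaE := by decide +kernel
theorem ga_E2 : gaE * gaE = gaE2 := by decide +kernel
theorem ga_E4 : gaE2 * gaE2 = gaE4 := by decide +kernel
theorem ga_E5 : gaE4 * gaE = 1 := by decide +kernel
theorem ga_K : gaG * gaD2 = gaK := by decide +kernel
theorem ga_K2 : gaK * gaK = gaK2 := by decide +kernel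
theorem ga_K4 : gaK2 * gaK2 = gaK4 := by decide +kernel
theorem ga_K5 : gaK4 * gaK = 1 := by decide +kernel
theorem ga_h3 : (gaG * (gaH * gaG * gaH')) ^ 5 = 1 := by
  rw [ga_D, ga_E, pow_five, ga_E2, ga_E4, ga_E5]
theorem ga_h4 : (gaG * (gaH * gaG ^ 2 * gaH')) ^ 5 = 1 := by
  rw [ga_G2, ga_D2, ga_K, pow_five, ga_K2, ga_K4, ga_K5]

def beG : Matrix (Fin 4) (Fin 4) (ZMod 2) := !![0, 1, 0, 0; 1, 1, 0, 0; 0, 0, 0, 1; 0, 0, 1, 1]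
def beH : Matrix (Fin 4) (Fin 4) (ZMod 2) := !![0, 1, 1, 0; 0, 1, 0, 0; 1, 0, 0, 0; 0, 0, 0, 1]
def beH' : Matrix (Fin 4) (Fin 4) (ZMod 2) := !![0, 0, 1, 0; 0, 1, 0, 0; 1, 1, 0, 0; 0, 0, 0, 1]
def beD : Matrix (Fin 4) (Fin 4) (ZMod 2) := !![0, 1, 1, 1; 0, 1, 1, 0; 0, 1, 0, 0; 1, 1, 0, 1]
def beG2 : Matrix (Fin 4) (Fin 4) (ZMod 2) := !![1, 1, 0, 0; 1, 0, 0, 0; 0, 0, 1, 1; 0, 0, 1, 0]
def beD2 : Matrix (Fin 4) (Fin 4) (ZMod 2) := !![1, 1, 1, 1; 0, 0, 1, 0; 0, 1, 1, 0; 1, 1, 0, 0]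
def beE : Matrix (Fin 4) (Fin 4) (ZMod 2) := !![0, 1, 1, 0; 0, 0, 0, 1; 1, 1, 0, 1; 1, 0, 0, 1]
def beE2 : Matrix (Fin 4) (Fin 4) (ZMod 2) := !![1, 1, 0, 0; 1, 0, 0, 1; 1, 1, 1, 0; 1, 1, 1, 1]
def beE4 : Matrix (Fin 4) (Fin 4) (ZMod 2) := !![0, 1, 0, 1; 0, 0, 1, 1; 1, 0, 1, 1; 0, 1, 0, 0]
def beK : Matrix (Fin 4) (Fin 4) (ZMod 2) := !![0, 0, 1, 0; 1, 1, 0, 1; 1, 1, 0, 0; 1, 0, 1, 0]
def beK2 : Matrix (Fin 4) (Fin 4) (ZMod 2) := !![1, 1, 0, 0; 0, 1, 0, 1; 1, 1, 1, 1; 1, 1, 1, 0]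
def beK4 : Matrix (Fin 4) (Fin 4) (ZMod 2) := !![1, 0, 0, 1; 1, 0, 1, 1; 1, 0, 0, 0; 0, 1, 1, 0]

theorem be_h0 : beH * beH' = 1 := by decide +kernel
theorem be_G2 : beG ^ 2 = beG2 := by rw [pow_two]; decide +kernel
theorem be_h1 : beG ^ 3 = 1 := by rw [pow_succ, be_G2]; decide +kernel
theorem be_D : beH * beG * beH' = beD := by decide +kernel
theorem be_D2 : beH * beG2 * beH' = beD2 := by decide +kernel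
theorem be_E : beG * beD = beE := by decide +kernel
theorem be_E2 : beE * beE = beE2 := by decide +kernel
theorem be_E4 : beE2 * beE2 = beE4 := by decide +kernel
theorem be_E5 : beE4 * beE = 1 := by decide +kernel
theorem be_K : beG * beD2 = beK := by decide +kernel
theorem be_K2 : beK * beK = beK2 := by decide +kernel
theorem be_K4 : beK2 * beK2 = beK4 := by decide +kernel
theorem be_K5 : beK4 * beK = 1 := by decide +kernel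
theorem be_h3 : (beG * (beH * beG * beH')) ^ 5 = 1 := by
  rw [be_D, be_E, pow_five, be_E2, be_E4, be_E5]
theorem be_h4 : (beG * (beH * beG ^ 2 * beH')) ^ 5 = 1 := by
  rw [be_G2, be_D2, be_K, pow_five, be_K2, be_K4, be_K5]

end Cfsg.Agent.H497.SN
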