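import Mathlib

/-!
# Two elements with the relations `c³ = d³ = (c d)⁵ = (c d⁻¹)⁵ = 1` (helper497, task 4453 of helper21)

`eq_one_of_rel` : in a solvable group such elements are trivial; `engine` : linear version with explicit matrices over the
field with two elements on an invariant set of vectors.
-/

set_option autoImplicit false
set_option linter.unusedSectionVars false

namespace Cfsg.Agent.H497.SN

open Subgroup

theorem ab_trivial {A : Type*} [CommGroup A] {a b : A} (h1 : a ^ 3 = 1) (h2 : b ^ 3 = 1) (h3 : (a * b) ^ 5 = 1)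
    (h4 : (a * b ^ 2) ^ 5 = 1) : a = 1 ∧ b = 1 := by
  have e1 : a ^ 5 = a ^ 2 := by rw [show 5 = 3 + 2 from rfl, pow_add, h1, one_mul]
  have e2 : b ^ 5 = b ^ 2 := by rw [show 5 = 3 + 2 from rfl, pow_add, h2, one_mul]
  have e3 : (b ^ 2) ^ 5 = b := by rw [← pow_mul, show 2 * 5 = 3 * 3 + 1 from rfl, pow_add, pow_mul, h2, one_pow, one_mul, pow_one]
  rw [mul_pow, e1, e2] at h3
  rw [mul_pow, e1, e3] at h4
  have hb : b = 1 := by
    have h5 : a ^ 2 * b ^ 2 = (a ^ 2 * b) * b := by rw [pow_two b, mul_assoc]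
    rw [h5, h4, one_mul] at h3
    exact h3
  have ha : a = 1 := by
    rw [hb, mul_one] at h4
    have h5 : a ^ 3 = a ^ 2 * a := pow_succ a 2
    rw [h1, h4, one_mul] at h5
    exact h5.symm
  exact ⟨ha, hb⟩

theorem eq_one_of_rel {S P : Type*} [Group S] [Group P] (hs : Group.IsSolvable S) (φ : S →* P) {c d : S}
    (hgen : closure {c, d} = ⊤) (h1 : φ c ^ 3 = 1) (h2 : φ d ^ 3 = 1) (h3 : (φ c * φ d) ^ 5 = 1)
    (h4 : (φ c * φ d ^ 2) ^ 5 = 1) : φ c = 1 := by
  have hH : Group.IsSolvable φ.range :=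
    Group.isSolvable_of_surjective (f := φ.rangeRestrict) φ.rangeRestrict_surjective
  set c' : φ.range := ⟨φ c, c, rfl⟩ with hc'
  set d' : φ.range := ⟨φ d, d, rfl⟩ with hd'
  have r1 : c' ^ 3 = 1 := Subtype.ext h1
  have r2 : d' ^ 3 = 1 := Subtype.ext h2
  have r3 : (c' * d') ^ 5 = 1 := Subtype.ext h3
  have r4 : (c' * d' ^ 2) ^ 5 = 1 := Subtype.ext h4
  obtain ⟨ha, hb⟩ := ab_trivial (a := Abelianization.of c') (b := Abelianization.of d')
    (by rw [← map_pow, r1, map_one]) (by rw [← map_pow, r2, map_one])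
    (by rw [← map_mul, ← map_pow, r3, map_one]) (by rw [← map_pow, ← map_mul, ← map_pow, r4, map_one])
  have htop : closure {c', d'} = ⊤ := by
    have h5 := congrArg (Subgroup.map φ.rangeRestrict) hgen
    rw [MonoidHom.map_closure, ← MonoidHom.range_eq_map, MonoidHom.range_eq_top.2 φ.rangeRestrict_surjective,
      Set.image_pair] at h5
    exact h5
  have hcomm : commutator φ.range = ⊤ := by
    rw [eq_top_iff, ← htop, closure_le]
    rintro x (rfl | rfl)
    · rw [← Abelianization.ker_of]; exact ha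
    · rw [← Abelianization.ker_of]; exact hb
  by_contra hne
  have hnt : Nontrivial φ.range := ⟨c', 1, fun h => hne (congrArg Subtype.val h)⟩
  have : Group.IsPerfect φ.range := ⟨hcomm⟩
  exact Group.IsPerfect.not_isSolvable _ hH

section Lin

variable {R V : Type*} [CommRing R] [AddCommGroup V] [Module R V] [Module (ZMod 2) V] {n : ℕ}

/-- `s` acts on the vectors `b i` by the matrix `M` -/
def Act (b : Fin n → V) (s : V ≃ₗ[R] V) (M : Matrix (Fin n) (Fin n) (ZMod 2)) : Prop :=
  ∀ i, s (b i) = ∑ j, M j i • b j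

theorem smul_two (s : V ≃ₗ[R] V) (a : ZMod 2) (v : V) : s (a • v) = a • s v := by
  rcases (by decide : ∀ a : ZMod 2, a = 0 ∨ a = 1) a with rfl | rfl
  · rw [zero_smul, zero_smul, map_zero]
  · rw [one_smul, one_smul]

theorem Act.mul {b : Fin n → V} {s t : V ≃ₗ[R] V} {M N : Matrix (Fin n) (Fin n) (ZMod 2)} (hs : Act b s M)
    (ht : Act b t N) : Act b (s * t) (M * N) := by
  intro i
  rw [LinearEquiv.mul_apply, ht i, map_sum]
  simp only [smul_two]
  have h1 : ∀ j, N j i • s (b j) = ∑ k, (N j i * M k j) • b k := by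
    intro j
    rw [hs j, Finset.smul_sum]
    exact Finset.sum_congr rfl fun k _ => by rw [smul_smul]
  rw [Finset.sum_congr rfl fun j _ => h1 j, Finset.sum_comm]
  refine Finset.sum_congr rfl fun k _ => ?_
  rw [← Finset.sum_smul, Matrix.mul_apply]
  congr 1
  exact Finset.sum_congr rfl fun j _ => mul_comm _ _

theorem Act.one (b : Fin n → V) : Act b (1 : V ≃ₗ[R] V) 1 := by
  intro i
  rw [Finset.sum_eq_single i]
  · rw [Matrix.one_apply_eq, one_smul]; rfl
  · intro j _ hj
    rw [Matrix.one_apply_ne hj, zero_smul]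
  · intro h
    exact absurd (Finset.mem_univ i) h

theorem Act.pow {b : Fin n → V} {s : V ≃ₗ[R] V} {M : Matrix (Fin n) (Fin n) (ZMod 2)} (hs : Act b s M) (k : ℕ) :
    Act b (s ^ k) (M ^ k) := by
  induction k with
  | zero => rw [pow_zero, pow_zero]; exact Act.one b
  | succ k ih => rw [pow_succ, pow_succ]; exact ih.mul hs

theorem Act.inv {b : Fin n → V} {s : V ≃ₗ[R] V} {M N : Matrix (Fin n) (Fin n) (ZMod 2)} (hs : Act b s M)
    (h : M * N = 1) : Act b s⁻¹ N := by
  intro i
  have h1 : s (∑ j, N j i • b j) = b i := by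
    rw [map_sum]
    simp only [smul_two]
    have h2 : ∀ j, N j i • s (b j) = ∑ k, (N j i * M k j) • b k := by
      intro j
      rw [hs j, Finset.smul_sum]
      exact Finset.sum_congr rfl fun k _ => by rw [smul_smul]
    rw [Finset.sum_congr rfl fun j _ => h2 j, Finset.sum_comm]
    have h3 : ∀ k, ∑ j, (N j i * M k j) • b k = (M * N) k i • b k := by
      intro k
      rw [← Finset.sum_smul, Matrix.mul_apply]
      congr 1
      exact Finset.sum_congr rfl fun j _ => mul_comm _ _
    rw [Finset.sum_congr rfl fun k _ => h3 k, h]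
    have h4 := Act.one (R := R) b i
    exact h4.symm
  rw [← h1]
  exact s.symm_apply_apply _

/-- **The engine**: if `g`, `h` act on the vectors `b i` by `G`, `H` and `G`, `H G H⁻¹` satisfy the relations, then
`⟨g, h g h⁻¹⟩` is not solvable unless `g` fixes all `b i`. -/
theorem engine {b : Fin n → V} {g h : V ≃ₗ[R] V} {G H H' : Matrix (Fin n) (Fin n) (ZMod 2)} (hg : Act b g G)
    (hh : Act b h H) (h0 : H * H' = 1) (h1 : G ^ 3 = 1) (h3 : (G * (H * G * H')) ^ 5 = 1)
    (h4 : (G * (H * G ^ 2 * H')) ^ 5 = 1)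
    (hs : Group.IsSolvable (closure {g, h * g * h⁻¹} : Subgroup (V ≃ₗ[R] V))) (i : Fin n) : g (b i) = b i := by
  set S : Subgroup (V ≃ₗ[R] V) := closure {g, h * g * h⁻¹} with hS
  set d := h * g * h⁻¹ with hd
  have h0' : H' * H = 1 := mul_eq_one_comm.1 h0
  have hdA : Act b d (H * G * H') := (hh.mul hg).mul (hh.inv h0)
  have hD2 : (H * G * H') ^ 2 = H * G ^ 2 * H' := by
    rw [pow_two, pow_two]
    calc H * G * H' * (H * G * H') = H * G * (H' * H) * G * H' := by simp only [mul_assoc]
      _ = H * (G * G) * H' := by rw [h0', mul_one]; simp only [mul_assoc]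
  have hD3 : (H * G * H') ^ 3 = 1 := by
    rw [pow_succ, hD2]
    calc H * G ^ 2 * H' * (H * G * H') = H * G ^ 2 * (H' * H) * G * H' := by simp only [mul_assoc]
      _ = H * (G ^ 2 * G) * H' := by rw [h0', mul_one]; simp only [mul_assoc]
      _ = 1 := by rw [← pow_succ, h1, mul_one, h0]
  -- the additive group generated by the vectors
  set A : AddSubgroup V := AddSubgroup.closure (Set.range b) with hA
  have hbA : ∀ i, b i ∈ A := fun i => AddSubgroup.subset_closure ⟨i, rfl⟩
  have hsm : ∀ (a : ZMod 2) (v : V), v ∈ A → a • v ∈ A := by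
    intro a v hv
    rcases (by decide : ∀ a : ZMod 2, a = 0 ∨ a = 1) a with rfl | rfl
    · rw [zero_smul]; exact A.zero_mem
    · rwa [one_smul]
  have hmap : ∀ (s : V ≃ₗ[R] V) (M : Matrix (Fin n) (Fin n) (ZMod 2)), Act b s M → ∀ a ∈ A, s a ∈ A := by
    intro s M hs a ha
    induction ha using AddSubgroup.closure_induction with
    | mem x hx =>
      obtain ⟨i, rfl⟩ := hx
      rw [hs i]
      exact A.sum_mem fun j _ => hsm _ _ (hbA j)
    | zero => rw [map_zero]; exact A.zero_mem
    | add x y _ _ hx hy => rw [map_add]; exact A.add_mem hx hy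
    | neg x _ hx => rw [map_neg]; exact A.neg_mem hx
  have hfix : ∀ s : V ≃ₗ[R] V, Act b s 1 → ∀ a ∈ A, s a = a := by
    intro s hs a ha
    induction ha using AddSubgroup.closure_induction with
    | mem x hx =>
      obtain ⟨i, rfl⟩ := hx
      rw [hs i]
      exact (Act.one (R := R) b i).symm
    | zero => rw [map_zero]
    | add x y _ _ hx hy => rw [map_add, hx, hy]
    | neg x _ hx => rw [map_neg, hx]
  have hginv : Act b g⁻¹ (G ^ 2) := hg.inv (by rw [← pow_succ', h1])
  have hdinv : Act b d⁻¹ ((H * G * H') ^ 2) := hdA.inv (by rw [← pow_succ', hD3])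
  have hSA : ∀ s ∈ S, ∀ a ∈ A, s a ∈ A := by
    have key : ∀ s ∈ S, (∀ a ∈ A, s a ∈ A) ∧ ∀ a ∈ A, s⁻¹ a ∈ A := by
      intro s hs
      induction hs using Subgroup.closure_induction with
      | mem x hx =>
        rcases hx with rfl | rfl
        · exact ⟨hmap _ _ hg, hmap _ _ hginv⟩
        · exact ⟨hmap _ _ hdA, hmap _ _ hdinv⟩
      | one => exact ⟨fun a ha => ha, fun a ha => by rw [inv_one]; exact ha⟩
      | mul x y _ _ hx hy =>
        refine ⟨fun a ha => hx.1 _ (hy.1 _ ha), fun a ha => ?_⟩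
        rw [mul_inv_rev]
        exact hy.2 _ (hx.2 _ ha)
      | inv x _ hx => exact ⟨hx.2, fun a ha => by rw [inv_inv]; exact hx.1 a ha⟩
    exact fun s hs => (key s hs).1
  let X : SubMulAction S V :=
    { carrier := A
      smul_mem' := fun s {a} ha => hSA s s.2 a ha }
  let φ : S →* Equiv.Perm X := MulAction.toPermHom S X
  have hφ : ∀ s : S, Act b (s : V ≃ₗ[R] V) 1 → φ s = 1 := by
    intro s hs
    ext ⟨a, ha⟩
    exact hfix _ hs a ha
  have hgS : g ∈ S := Subgroup.subset_closure (Or.inl rfl)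
  have hdS : d ∈ S := Subgroup.subset_closure (Or.inr rfl)
  have hgen : closure {(⟨g, hgS⟩ : S), ⟨d, hdS⟩} = ⊤ := by
    apply Subgroup.map_injective S.subtype_injective
    rw [MonoidHom.map_closure, Set.image_pair, ← MonoidHom.range_eq_map, Subgroup.range_subtype]
    rfl
  have h5 := eq_one_of_rel hs φ hgen
    (by rw [← map_pow]; refine hφ _ ?_; rw [← h1]; exact hg.pow 3)
    (by rw [← map_pow]; refine hφ _ ?_; rw [← hD3]; exact hdA.pow 3)
    (by rw [← map_mul, ← map_pow]; refine hφ _ ?_; rw [← h3]; exact (hg.mul hdA).pow 5)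
    (by
      rw [← map_pow, ← map_mul, ← map_pow]
      refine hφ _ ?_
      rw [← h4, ← hD2]
      exact (hg.mul (hdA.pow 2)).pow 5)
  have h6 := congrArg (fun e : Equiv.Perm X => ((e ⟨b i, hbA i⟩ : X) : V)) h5
  exact h6

end Lin

end Cfsg.Agent.H497.SN
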